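import Groth.Agent.AVRRLib.EulerPush
import Groth.Agent.AVAmpleLib.KerShear
import Groth.Agent.AVAmpleLib.Degree
import Groth.Agent.RpushLib.FlatPull
import Groth.Agent.H0Lib.Group
import Groth.Agent.H0Lib.Apply
import Groth.Agent.CubeConsLib.FieldHom
import Groth.Agent.ConsLib.ModLoci
import Groth.Agent.CohCmpLib.CanonApps
import Groth.Agent.S0033

/-!
The Euler characteristic is multiplicative under isogenies.
-/

set_option autoImplicit false
set_option maxHeartbeats 1000000
set_option backward.isDefEq.respectTransparency false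
set_option linter.style.haveILetI false

noncomputable section

universe u

open CategoryTheory CategoryTheory.Limits MonoidalCategory CartesianMonoidalCategory MonObj AlgebraicGeometry
open TopologicalSpace

namespace AVRRLib

variable {k : Type u} [Field k]

theorem genRank_freeMod (Z : Scheme.{u}) [IsIntegral Z] (n : ℕ) : CurvLib.genRank (FlatMod.freeMod Z n) = n := by
  have h : FlatMod.IsFinLocFreeOfRank n (FlatMod.freeMod Z n) := fun x =>
    ⟨⊤, trivial, ⟨(Scheme.Modules.restrictFunctorIsoPullback (⊤ : Z.Opens).ι).app _ ≪≫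
      KFlatLib.pullFreeIso (⊤ : Z.Opens).ι n⟩⟩
  obtain ⟨e⟩ := CurvLib.nonempty_stalk_pi_of_locFree h (genericPoint Z)
  letI : Field (Z.presheaf.stalk (genericPoint Z)) := (inferInstance : Field Z.functionField)
  exact e.finrank_eq.trans (Module.finrank_fin_fun _)

/-- A product with a finite scheme over the base field multiplies the Euler characteristic. -/
theorem euler_base_finite {Z P N : Scheme.{u}} [IsIntegral Z] (sZ : Z ⟶ Spec (CommRingCat.of k)) [IsProper sZ]
    (sN : N ⟶ Spec (CommRingCat.of k)) [IsFinite sN] (p : P ⟶ Z) (r : P ⟶ N) (H : IsPullback r p sN sZ)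
    {d : ℕ} (hd : p.finrank (genericPoint Z) = d) [IsFinite p] [Flat p] :
    @Curv2.euler k _ P ⟨p ≫ sZ⟩ (Coh.structureModule P) = (d : ℤ) * @Curv2.euler k _ Z ⟨sZ⟩ (Coh.structureModule Z) := by
  letI : Z.Over (Spec (CommRingCat.of k)) := ⟨sZ⟩
  letI : P.Over (Spec (CommRingCat.of k)) := ⟨p ≫ sZ⟩
  haveI : IsProper (Z ↘ Spec (CommRingCat.of k)) := ‹IsProper sZ›
  haveI : Coh.IsQCoh (Coh.structureModule P) := (DevissLib.isCoh_structureModule P).1
  haveI : Coh.IsQCoh (Coh.structureModule N) := (DevissLib.isCoh_structureModule N).1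
  haveI : HasInjectiveResolutions N.Modules := inferInstance
  haveI : HasInjectiveResolutions P.Modules := inferInstance
  haveI : IsLocallyNoetherian N := LocallyOfFiniteType.isLocallyNoetherian sN
  have hc : Coh.IsCoh ((Coh.push sN).obj (Coh.structureModule N)) :=
    QCohLib.isCoh_push_finite sN _ (DevissLib.isCoh_structureModule N)
  haveI := hc.1
  obtain ⟨n, ⟨en⟩⟩ := CohCmpLib.exists_freeMod_iso_of_field k _ hc.2
  obtain ⟨e⟩ := Groth.Agent.S0033.result sN sZ r p H (Coh.structureModule N) 0
  haveI : PreservesFiniteLimits (Scheme.Modules.pushforward sN) := CohCmpLib.preservesFiniteLimits_push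
  haveI : PreservesFiniteLimits (Scheme.Modules.pushforward p) := CohCmpLib.preservesFiniteLimits_push
  let ep : (Coh.push p).obj (Coh.structureModule P) ≅ FlatMod.freeMod Z n :=
    (Coh.push p).mapIso (KFlatLib.pullUnitIso r).symm ≪≫
    ((Scheme.Modules.pushforward p).rightDerivedZeroIsoSelf.app _).symm ≪≫ e.symm ≪≫
    (Scheme.Modules.pullback sZ).mapIso (((Scheme.Modules.pushforward sN).rightDerivedZeroIsoSelf.app _) ≪≫ en) ≪≫
    KFlatLib.pullFreeIso sZ n
  have hn : n = d := by
    haveI := CurvLib.isNoetherian k (X := Z)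
    rw [← hd, ← AVAmpleLib.genRank_push_structure p, ← genRank_freeMod Z n]
    exact (((DevissLib.St (genericPoint Z)).mapIso ep).toLinearEquiv.finrank_eq).symm
  rw [(PushLinLib.euler_push k p rfl (Coh.structureModule P)).2, CurvLib.euler_congr (k := k) ep,
    DetDegLib.euler_freeMod k, hn]

variable {X Y : Over (Spec (CommRingCat.of k))} [GrpObj X] [IsProper X.hom] [GeometricallyIntegral X.hom]
  [GrpObj Y] [IsProper Y.hom] [GeometricallyIntegral Y.hom]

/-- Every morphism of abelian varieties, pulled back along itself, is a projection from a product. -/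
theorem exists_shear (f : X ⟶ Y) [IsFinite f.left] :
    ∃ (N : Scheme.{u}) (sN : N ⟶ Spec (CommRingCat.of k)) (P : Scheme.{u}) (a b : P ⟶ X.left) (c : P ⟶ N),
      IsFinite sN ∧ IsPullback a b f.left f.left ∧ IsPullback c a sN X.hom := by
  haveI : LocallyOfFinitePresentation X.hom := LocallyOfFinitePresentation.iff_locallyOfFiniteType.2 inferInstance
  haveI : Flat X.hom := inferInstance
  haveI : IsCommMonObj Y := CubeConsLib.isCommMonObj_field
  haveI := H0Lib.geometricallyConnected_of_integral X.hom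
  let c₀ : 𝟙_ (Over (Spec (CommRingCat.of k))) ⟶ Y := η[X] ≫ f
  let t : Y ⟶ Y := 𝟙 Y * (toUnit Y ≫ c₀)
  let f' : X ⟶ Y := f * (toUnit X ≫ c₀⁻¹)
  haveI : IsMonHom f' := H0Lib.isMonHom_of_one_comp f' (by
    show η[X] ≫ (f * (toUnit X ≫ c₀⁻¹)) = η[Y]
    rw [MonObj.comp_mul, ← Category.assoc, toUnit_unique (η[X] ≫ toUnit X) (𝟙 _), Category.id_comp,
      show η[X] ≫ f = c₀ from rfl, mul_inv_cancel, Hom.one_def, toUnit_unique (toUnit _) (𝟙 _), Category.id_comp])
  haveI : IsIso t := ⟨⟨𝟙 Y * (toUnit Y ≫ c₀⁻¹),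
    by
      rw [MonObj.comp_mul, Category.comp_id, ← Category.assoc, toUnit_unique (t ≫ toUnit Y) (toUnit Y), _root_.mul_assoc,
        ← MonObj.comp_mul, mul_inv_cancel, MonObj.comp_one, _root_.mul_one],
    by
      rw [MonObj.comp_mul, Category.comp_id, ← Category.assoc, toUnit_unique (_ ≫ toUnit Y) (toUnit Y), _root_.mul_assoc,
        ← MonObj.comp_mul, inv_mul_cancel, MonObj.comp_one, _root_.mul_one]⟩⟩
  have hft : f = f' ≫ t := by
    rw [MonObj.comp_mul, Category.comp_id, ← Category.assoc, toUnit_unique (f' ≫ toUnit Y) (toUnit X), _root_.mul_assoc,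
      ← MonObj.comp_mul, inv_mul_cancel, MonObj.comp_one, _root_.mul_one]
  haveI : IsIso t.left := inferInstanceAs (IsIso ((Over.forget _).map t))
  have hfin : IsFinite f'.left := by
    have e : f'.left = f.left ≫ inv t.left := by rw [hft, Over.comp_left, Category.assoc, IsIso.hom_inv_id, Category.comp_id]
    rw [e]; infer_instance
  let N := pullback f' η[Y]
  let i : N ⟶ X := pullback.fst f' η[Y]
  have h : IsPullback i (toUnit N) f' η[Y] := by
    rw [toUnit_unique (toUnit N) (pullback.snd f' η[Y])]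
    exact IsPullback.of_hasPullback _ _
  have h1 : IsPullback i.left N.hom f'.left (η[Y] : 𝟙_ (Over (Spec (CommRingCat.of k))) ⟶ Y).left :=
    h.map (Over.forget _)
  have hsh := AVAmpleLib.isPullback_shear_left f' i h
  refine ⟨N.left, N.hom, (X ⊗ N).left, (fst X N).left, (fst X N * (snd X N ≫ i)).left, (snd X N).left,
    MorphismProperty.of_isPullback h1 hfin, ?_, (IsPullback.of_hasPullback X.hom N.hom).flip⟩
  refine hsh.of_iso (Iso.refl _) (Iso.refl _) (Iso.refl _) (asIso t.left) (by simp) (by simp) ?_ ?_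
  · rw [Iso.refl_hom, Category.id_comp, hft, Over.comp_left]; rfl
  · rw [Iso.refl_hom, Category.id_comp, hft, Over.comp_left]; rfl

/-- `χ(f^*F) = deg f · χ(F)`. -/
theorem euler_pullback (f : X ⟶ Y) [IsFinite f.left] [Flat f.left] (d : ℕ)
    (hd : ∀ y : Y.left, f.left.finrank y = d) {F : Y.left.Modules} (hF : Coh.IsCoh F) :
    @Curv2.euler k _ X.left ⟨X.hom⟩ ((Scheme.Modules.pullback f.left).obj F) =
      (d : ℤ) * @Curv2.euler k _ Y.left ⟨Y.hom⟩ F := by
  letI : X.left.Over (Spec (CommRingCat.of k)) := ⟨X.hom⟩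
  letI : Y.left.Over (Spec (CommRingCat.of k)) := ⟨Y.hom⟩
  haveI : IsProper (X.left ↘ Spec (CommRingCat.of k)) := inferInstanceAs (IsProper X.hom)
  haveI : IsProper (Y.left ↘ Spec (CommRingCat.of k)) := inferInstanceAs (IsProper Y.hom)
  haveI := CurvLib.isNoetherian k (X := Y.left)
  haveI := CurvLib.isNoetherian k (X := X.left)
  haveI : IsIntegral Y.left := GeometricallyIntegral.isIntegral_of_subsingleton Y.hom
  haveI : IsIntegral X.left := GeometricallyIntegral.isIntegral_of_subsingleton X.hom
  haveI : LocallyOfFinitePresentation f.left := LocallyOfFinitePresentation.iff_locallyOfFiniteType.2 inferInstance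
  haveI : Surjective f.left := ⟨fun y => by
    have ho : IsOpen (Set.range f.left) := f.left.isOpenMap.isOpen_range
    have hc : IsClosed (Set.range f.left) := f.left.isClosedMap.isClosed_range
    have := IsClopen.eq_univ ⟨hc, ho⟩ ⟨_, ⟨(inferInstance : Nonempty X.left).some, rfl⟩⟩
    exact this.symm.le (Set.mem_univ y)⟩
  haveI := RpushLib.preservesMonomorphisms_pullback f.left
  let Φ : Y.left.Modules → ℤ := fun M =>
    Curv2.euler k X.left ((Scheme.Modules.pullback f.left).obj M) - (d : ℤ) * Curv2.euler k Y.left M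
  refine sub_eq_zero.1 (additive_eq_zero k Φ (fun M N i => ?_) (fun M hM => ?_) (fun S hS h₁ h₂ h₃ => ?_) ?_ F hF)
  · simp only [Φ, CurvLib.euler_congr (k := k) i,
      CurvLib.euler_congr (k := k) ((Scheme.Modules.pullback f.left).mapIso i)]
  · simp only [Φ, HilbPolyLib.euler_zero hM, HilbPolyLib.euler_zero (Functor.map_isZero _ hM), mul_zero, sub_zero]
  · haveI := hS.mono_f
    haveI := hS.epi_g
    have hT : (S.map (Scheme.Modules.pullback f.left)).ShortExact :=
      { exact := hS.exact.map_of_epi_of_preservesCokernel _ inferInstance inferInstance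
        mono_f := inferInstanceAs (Mono ((Scheme.Modules.pullback f.left).map S.f))
        epi_g := inferInstanceAs (Epi ((Scheme.Modules.pullback f.left).map S.g)) }
    have h := CurvLib.euler_add_of_isCoh (k := k) hT (ConsLib.isCoh_pullback _ h₁) (ConsLib.isCoh_pullback _ h₂)
      (ConsLib.isCoh_pullback _ h₃)
    simp only [ShortComplex.map_X₁, ShortComplex.map_X₂, ShortComplex.map_X₃] at h
    simp only [Φ, h, CurvLib.euler_add_of_isCoh (k := k) hS h₁ h₂ h₃]
    ring
  intro ξ
  obtain ⟨v, rfl⟩ := f.left.surjective ξ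
  obtain ⟨Z, j, hj, hZ, hr⟩ := DevissLib.exists_integral_closed isClosed_closure (isIrreducible_singleton (x := v)).closure
  let g := j ≫ f.left
  obtain ⟨hGc, hGs, -⟩ := DevissLib.push_structure_finite g
  refine ⟨_, hGc, ?_, ?_⟩
  · rw [hGs, show ⇑g = ⇑f.left ∘ ⇑j by rfl, Set.range_comp, hr,
      ← f.left.isClosedMap.closure_image_eq_of_continuous f.left.continuous, Set.image_singleton]
  obtain ⟨N, sN, P₀, a, b, c, hN, hab, hca⟩ := exists_shear f
  -- the base change of `g` along `f`
  let P := pullback j a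
  let p : P ⟶ Z := pullback.fst j a
  let q : P ⟶ X.left := pullback.snd j a ≫ b
  have H₁ : IsPullback q p f.left g :=
    (IsPullback.of_hasPullback j a).flip.paste_horiz hab.flip
  have H₂ : IsPullback (pullback.snd j a ≫ c) p sN (j ≫ X.hom) :=
    (IsPullback.of_hasPullback j a).flip.paste_horiz hca
  haveI : IsFinite p := MorphismProperty.of_isPullback H₁ inferInstance
  haveI : Flat p := MorphismProperty.of_isPullback H₁ inferInstance
  haveI : IsFinite q := MorphismProperty.of_isPullback H₁.flip inferInstance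
  haveI : IsProper (j ≫ X.hom) := inferInstance
  have hdp : p.finrank (genericPoint Z) = d := by
    rw [Scheme.Hom.finrank_of_isPullback _ _ _ _ H₁, hd]
  letI : Z.Over (Spec (CommRingCat.of k)) := ⟨j ≫ X.hom⟩
  letI : P.Over (Spec (CommRingCat.of k)) := ⟨p ≫ j ≫ X.hom⟩
  have hP := euler_base_finite (j ≫ X.hom) sN p (pullback.snd j a ≫ c) H₂ hdp
  haveI : Coh.IsQCoh (Coh.structureModule P) := (DevissLib.isCoh_structureModule P).1
  haveI : Coh.IsQCoh (Coh.structureModule Z) := (DevissLib.isCoh_structureModule Z).1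
  haveI : HasInjectiveResolutions Z.Modules := inferInstance
  haveI : HasInjectiveResolutions P.Modules := inferInstance
  obtain ⟨e⟩ := Groth.Agent.S0033.result g f.left p q H₁.flip (Coh.structureModule Z) 0
  haveI : PreservesFiniteLimits (Scheme.Modules.pushforward g) := CohCmpLib.preservesFiniteLimits_push
  haveI : PreservesFiniteLimits (Scheme.Modules.pushforward q) := CohCmpLib.preservesFiniteLimits_push
  let e' : (Scheme.Modules.pullback f.left).obj ((Coh.push g).obj (Coh.structureModule Z)) ≅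
      (Coh.push q).obj (Coh.structureModule P) :=
    (Scheme.Modules.pullback f.left).mapIso ((Scheme.Modules.pushforward g).rightDerivedZeroIsoSelf.app _).symm ≪≫ e ≪≫
    ((Scheme.Modules.pushforward q).rightDerivedZeroIsoSelf.app _) ≪≫ (Coh.push q).mapIso (KFlatLib.pullUnitIso p)
  have hg : g ≫ (Y.left ↘ Spec (CommRingCat.of k)) = Z ↘ Spec (CommRingCat.of k) :=
    (Category.assoc _ _ _).trans (congrArg (j ≫ ·) (Over.w f))
  have hq : q ≫ (X.left ↘ Spec (CommRingCat.of k)) = P ↘ Spec (CommRingCat.of k) := by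
    show q ≫ X.hom = p ≫ j ≫ X.hom
    rw [← Over.w f, reassoc_of% H₁.w]
    rfl
  show Curv2.euler k X.left _ - (d : ℤ) * Curv2.euler k Y.left _ = 0
  rw [CurvLib.euler_congr (k := k) e', ← (PushLinLib.euler_push k q hq _).2, ← (PushLinLib.euler_push k g hg _).2,
    sub_eq_zero]
  exact hP

end AVRRLib
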