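import Groth.Agent.AVRRLib.Isogeny
import Groth.Agent.AVAmpleLib.EulerPoly
import Groth.Agent.AVAmpleLib.MulDegree
import Groth.Agent.HilbPolyLib.IntNum
import Mathlib.Algebra.Group.ForwardDiff

/-!
`χ(m L) = m ^ g χ(L)` on an abelian variety.
-/

set_option autoImplicit false
set_option maxHeartbeats 1000000
set_option backward.isDefEq.respectTransparency false
set_option linter.style.haveILetI false

noncomputable section

universe u

open CategoryTheory MonoidalCategory CartesianMonoidalCategory MonObj AlgebraicGeometry TopologicalSpace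
open CubeConsLib AVAmpleLib

namespace AVRRLib

/-- Comparing top coefficients of the twisted substitution. -/
theorem coeff_twisted (Q : MvPolynomial (Fin 2) ℚ) (g : ℕ) (hQ : Q.totalDegree ≤ g) (s d : ℚ) :
    (MvPolynomial.aeval (![Polynomial.C (s / 2) * Polynomial.X ^ 2 + Polynomial.C (d / 2) * Polynomial.X,
        Polynomial.C (s / 2) * Polynomial.X ^ 2 + Polynomial.C (-d / 2) * Polynomial.X] : Fin 2 → Polynomial ℚ) Q).coeff
          (2 * g) =
      (∑ m ∈ Q.support with m 0 + m 1 = g, Q.coeff m * (1 / 2) ^ g) * s ^ g := by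
  have hp : ∀ e : ℚ, (Polynomial.C (s / 2) * Polynomial.X ^ 2 + Polynomial.C e * Polynomial.X).natDegree ≤ 2 :=
    fun e => (Polynomial.natDegree_add_le _ _).trans (max_le (Polynomial.natDegree_C_mul_X_pow_le _ _)
      ((Polynomial.natDegree_C_mul_le _ _).trans (Polynomial.natDegree_X_le.trans one_le_two)))
  have hc : ∀ e : ℚ, (Polynomial.C (s / 2) * Polynomial.X ^ 2 + Polynomial.C e * Polynomial.X).coeff 2 = s / 2 :=
    fun e => by simp [Polynomial.coeff_X_of_ne_one]
  rw [Finset.sum_mul]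
  conv_lhs => rw [Q.as_sum]
  rw [map_sum, Polynomial.finsetSum_coeff, Finset.sum_filter]
  refine Finset.sum_congr rfl fun m hm => ?_
  have hdeg : m 0 + m 1 ≤ g := by
    refine le_trans ?_ ((MvPolynomial.le_totalDegree hm).trans hQ)
    rw [Finsupp.sum_fintype _ _ (fun _ => rfl), Fin.sum_univ_two]
  rw [MvPolynomial.aeval_monomial, Finsupp.prod_fintype _ _ (fun _ => pow_zero _), Fin.prod_univ_two,
    ← Polynomial.C_eq_algebraMap, Polynomial.coeff_C_mul]
  simp only [Matrix.cons_val_zero, Matrix.cons_val_one]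
  have h1 := Polynomial.natDegree_pow_le_of_le (m 0) (hp (d / 2))
  have h2 := Polynomial.natDegree_pow_le_of_le (m 1) (hp (-d / 2))
  split_ifs with h
  · rw [show 2 * g = m 0 * 2 + m 1 * 2 by omega, Polynomial.coeff_mul_add_eq_of_natDegree_le h1 h2,
      Polynomial.coeff_pow_of_natDegree_le (hp _), Polynomial.coeff_pow_of_natDegree_le (hp _), hc, hc, ← h]
    ring
  · rw [Polynomial.coeff_eq_zero_of_natDegree_lt ((Polynomial.natDegree_mul_le.trans (add_le_add h1 h2)).trans_lt
      (by omega)), mul_zero]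

variable {k : Type u} [Field k] (A : Over (Spec (CommRingCat.of k))) [GrpObj A] [IsProper A.hom]
  [GeometricallyIntegral A.hom] [IsIntegral A.left]

variable {A}

/-- Multiplication by a nonzero integer multiplies `χ` by the degree. -/
theorem chi_pullA_zpow {g : ℕ} (hg : topologicalKrullDim A.left = (g : ℕ)) {n : ℤ} (hn : n ≠ 0)
    {c : PicA A.left} (hc : c ∈ clRange A) :
    chi A (pullA (𝟙 A ^ n).left c) = ((n.natAbs ^ (2 * g) : ℕ) : ℤ) * chi A c := by
  haveI := isFinite_zpow A hn
  haveI := flat_zpow A hn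
  obtain ⟨M, hM, rfl⟩ := hc
  rw [pullA_clA, chi_clA, chi_clA]
  exact euler_pullback (𝟙 A ^ n) _ (finrank_zpow A hn hg) (CurvLib.isCoh_of_isInvertible hM)

/-- Homogeneity of the Euler characteristic. -/
theorem chi_zsmul {g : ℕ} (hg : topologicalKrullDim A.left = (g : ℕ)) {L : A.left.Modules}
    (hL : PicF.IsInvertible L) (m : ℤ) : (chi A (m • clA hL) : ℚ) = (m : ℚ) ^ g * (chi A (clA hL) : ℚ) := by
  let Li := (Scheme.Modules.pullback ((𝟙 A)⁻¹ : A ⟶ A).left).obj L
  have hLi : PicF.IsInvertible Li := AmpleDevLib.isInvertible_pb _ hL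
  have hLi' : clA hLi = P hL (𝟙 A)⁻¹ := (P_eq hL _).symm
  obtain ⟨Q, hQ, hQ'⟩ := exists_chiPoly hg (x := ![clA hL, clA hLi]) (fun i => by
    fin_cases i
    · exact ⟨L, hL, rfl⟩
    · exact ⟨Li, hLi, rfl⟩)
  have hx : ∀ a b : ℤ, (chi A (a • clA hL + b • clA hLi) : ℚ) = MvPolynomial.eval ![(a : ℚ), (b : ℚ)] Q := fun a b => by
    have := hQ' ![a, b]
    simp only [Fin.sum_univ_two, Matrix.cons_val_zero, Matrix.cons_val_one] at this
    rw [this]
    congr 2
    funext i
    fin_cases i <;> simp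
  set c : ℚ := ∑ v ∈ Q.support with v 0 + v 1 = g, Q.coeff v * (1 / 2) ^ g
  suffices key : ∀ x y : ℤ, (chi A (x • clA hL + y • clA hLi) : ℚ) = c * ((x + y : ℤ) : ℚ) ^ g by
    have h1 := key 1 0
    have h2 := key m 0
    simp only [one_smul, zero_smul, add_zero, Int.cast_one, one_pow, _root_.mul_one] at h1 h2
    rw [h2, h1, mul_comm]
  intro x y
  rw [hx]
  let p : Polynomial ℚ := MvPolynomial.aeval
    (![Polynomial.C (((x + y : ℤ) : ℚ) / 2) * Polynomial.X ^ 2 + Polynomial.C (((x - y : ℤ) : ℚ) / 2) * Polynomial.X,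
      Polynomial.C (((x + y : ℤ) : ℚ) / 2) * Polynomial.X ^ 2 + Polynomial.C (-((x - y : ℤ) : ℚ) / 2) * Polynomial.X] :
        Fin 2 → Polynomial ℚ) Q
  have hp : p = Polynomial.C (MvPolynomial.eval ![(x : ℚ), (y : ℚ)] Q) * Polynomial.X ^ (2 * g) := by
    refine Polynomial.eq_of_infinite_eval_eq _ _ ((Set.infinite_range_of_injective
      (f := fun j : ℕ => ((j + 1 : ℕ) : ℚ)) fun a b h => by simpa using h).mono ?_)
    rintro _ ⟨j, rfl⟩
    let n : ℤ := ((j + 1 : ℕ) : ℤ)
    have hn : n ≠ 0 := by simp only [n]; omega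
    obtain ⟨a, ha⟩ := (Int.even_mul_succ_self n).two_dvd
    obtain ⟨b, hb⟩ : (2 : ℤ) ∣ n * (n - 1) := by
      have := (Int.even_mul_succ_self (n - 1)).two_dvd
      rwa [sub_add_cancel, mul_comm] at this
    have hP : ∀ f : A ⟶ A, P hL f = pullA f.left (clA hL) := fun _ => rfl
    have e₁ : pullA (𝟙 A ^ n).left (clA hL) = a • clA hL + b • clA hLi := by
      rw [← hP, zpow_formula hL, P_zero hL, smul_zero, add_zero, P_id, hLi', ha, hb,
        Int.mul_ediv_cancel_left _ two_ne_zero, Int.mul_ediv_cancel_left _ two_ne_zero]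
    have e₂ : pullA (𝟙 A ^ n).left (clA hLi) = b • clA hL + a • clA hLi := by
      rw [hLi', pullA_P, GrpObj.comp_inv, Category.comp_id, ← inv_zpow, zpow_formula hL, P_zero hL, smul_zero,
        add_zero, inv_inv, P_id, ha, hb, Int.mul_ediv_cancel_left _ two_ne_zero,
        Int.mul_ediv_cancel_left _ two_ne_zero, ← hLi', add_comm]
    have h := chi_pullA_zpow hg hn (c := x • clA hL + y • clA hLi)
      (AddSubgroup.add_mem _ (AddSubgroup.zsmul_mem _ (show clA hL ∈ clRange A from ⟨L, hL, rfl⟩) _)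
        (AddSubgroup.zsmul_mem _ (show clA hLi ∈ clRange A from ⟨Li, hLi, rfl⟩) _))
    rw [map_add, map_zsmul, map_zsmul, e₁, e₂, smul_add, smul_add, smul_smul, smul_smul, smul_smul, smul_smul,
      add_add_add_comm, ← add_smul, ← add_smul] at h
    have h' := congrArg (fun z : ℤ => (z : ℚ)) h
    have hq : n.natAbs = j + 1 := by simp only [n]; omega
    rw [hq] at h'
    push_cast at h'
    rw [hx, hx] at h'
    show p.eval ((j + 1 : ℕ) : ℚ) = _
    rw [Polynomial.eval_mul, Polynomial.eval_C, Polynomial.eval_pow, Polynomial.eval_X,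
      mul_comm _ (((j + 1 : ℕ) : ℚ) ^ (2 * g)), Nat.cast_add_one, ← h', ← Polynomial.coe_evalRingHom]
    simp only [p]
    rw [MvPolynomial.aeval_def, MvPolynomial.eval₂_comp_left]
    refine congrArg₂ (fun φ v => MvPolynomial.eval₂ φ v Q) (RingHom.ext fun r => by simp) (funext fun i => ?_)
    have ha' : (n : ℚ) * (n + 1) = 2 * a := by exact_mod_cast ha
    have hb' : (n : ℚ) * (n - 1) = 2 * b := by exact_mod_cast hb
    have hn' : (n : ℚ) = ((j + 1 : ℕ) : ℚ) := by simp [n]
    rw [hn'] at ha' hb'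
    fin_cases i
    · simp only [Function.comp_apply, Fin.zero_eta, Matrix.cons_val_zero, Polynomial.coe_evalRingHom,
        Polynomial.eval_add, Polynomial.eval_mul, Polynomial.eval_C, Polynomial.eval_pow, Polynomial.eval_X]
      push_cast at ha' hb' ⊢
      linear_combination (x : ℚ) / 2 * ha' + (y : ℚ) / 2 * hb'
    · simp only [Function.comp_apply, Fin.mk_one, Matrix.cons_val_one, Polynomial.coe_evalRingHom,
        Polynomial.eval_add, Polynomial.eval_mul, Polynomial.eval_C, Polynomial.eval_pow, Polynomial.eval_X]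
      push_cast at ha' hb' ⊢
      simp only [Polynomial.eval_add, Polynomial.eval_mul, Polynomial.eval_C, Polynomial.eval_pow, Polynomial.eval_X]
      linear_combination (x : ℚ) / 2 * hb' + (y : ℚ) / 2 * ha'
  have := congrArg (fun r : Polynomial ℚ => r.coeff (2 * g)) hp
  simp only [p] at this
  rw [Polynomial.coeff_C_mul_X_pow, if_pos rfl, coeff_twisted Q g hQ] at this
  exact this.symm

end AVRRLib
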