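import Groth.Agent.AVRRLib.Isogeny
import Groth.Agent.AVVanishLib.Transpose
import Groth.Agent.AVAmpleLib.Complement
import Groth.Agent.AVAmpleLib.MulDegree
import Groth.Agent.AlgEquivLib.Euler

/-!
The Euler characteristic of a degenerate invertible module on an abelian variety vanishes.
-/

set_option autoImplicit false
set_option maxHeartbeats 1000000
set_option maxRecDepth 8000
set_option backward.isDefEq.respectTransparency false
set_option linter.style.haveILetI false

noncomputable section

universe u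

open CategoryTheory CategoryTheory.Limits MonoidalCategory CartesianMonoidalCategory MonObj AlgebraicGeometry
open TopologicalSpace
open CubeConsLib AVVanishLib

namespace AVRRLib

variable {K : Type u} [Field K]

theorem isPullback_whiskerRight_left {S : Scheme.{u}} {X T Y : Over S} (t : T ⟶ X) :
    IsPullback (t ▷ Y).left (fst T Y).left (fst X Y).left t.left := by
  have outer : IsPullback (snd T Y).left (fst T Y).left Y.hom T.hom := (IsPullback.of_hasPullback T.hom Y.hom).flip
  have right : IsPullback (snd X Y).left (fst X Y).left Y.hom X.hom := (IsPullback.of_hasPullback X.hom Y.hom).flip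
  refine IsPullback.of_right ?_ ?_ right
  · rw [← Over.comp_left, whiskerRight_snd, Over.w t]
    exact outer
  · rw [← Over.comp_left, ← Over.comp_left, whiskerRight_fst]

/-- A class pulled back from a proper factor has vanishing Euler characteristic. -/
theorem euler_pullback_snd_eq_zero [IsAlgClosed K] (D C : Over (Spec (CommRingCat.of K))) [GrpObj D] [GrpObj C]
    [IsProper D.hom] [GeometricallyIntegral D.hom] [IsProper C.hom] [GeometricallyIntegral C.hom]
    (hd : topologicalKrullDim D.left ≠ 0) {N : C.left.Modules} (hN : PicF.IsInvertible N) :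
    @Curv2.euler K _ (D ⊗ C).left ⟨(D ⊗ C).hom⟩ ((Scheme.Modules.pullback (snd D C).left).obj N) = 0 := by
  haveI : IsProper (D ⊗ C).hom := inferInstanceAs (IsProper (pullback.fst D.hom C.hom ≫ D.hom))
  haveI : LocallyOfFinitePresentation D.hom := LocallyOfFinitePresentation.iff_locallyOfFiniteType.2 inferInstance
  haveI : Flat D.hom := inferInstance
  haveI : GeometricallyIntegral (D ⊗ C).hom := CubeConsLib.geometricallyIntegral_prod D.hom C.hom
  haveI : IsIntegral D.left := GeometricallyIntegral.isIntegral_of_subsingleton D.hom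
  haveI : IsLocallyNoetherian D.left := LocallyOfFiniteType.isLocallyNoetherian D.hom
  obtain ⟨d, hdd⟩ := AVAmpleLib.exists_dim D
  let t : D ⟶ D := 𝟙 D ^ (2 : ℤ)
  haveI : IsFinite t.left := AVAmpleLib.isFinite_zpow D two_ne_zero
  haveI : Flat t.left := AVAmpleLib.flat_zpow D two_ne_zero
  have h := isPullback_whiskerRight_left (Y := C) t
  haveI : IsFinite (t ▷ C).left := MorphismProperty.of_isPullback h.flip inferInstance
  haveI : Flat (t ▷ C).left := MorphismProperty.of_isPullback h.flip inferInstance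
  haveI : LocallyOfFinitePresentation t.left := LocallyOfFinitePresentation.iff_locallyOfFiniteType.2 inferInstance
  have hdeg : ∀ y : (D ⊗ C).left, (t ▷ C).left.finrank y = 2 ^ (2 * d) := fun y => by
    rw [Scheme.Hom.finrank_of_isPullback _ _ _ _ h.flip, AVAmpleLib.finrank_zpow D two_ne_zero hdd]
    rfl
  letI : (D ⊗ C).left.Over (Spec (CommRingCat.of K)) := ⟨(D ⊗ C).hom⟩
  have h' := euler_pullback (t ▷ C) _ hdeg
    (CurvLib.isCoh_of_isInvertible (AmpleDevLib.isInvertible_pb (snd D C).left hN))
  let e : (Scheme.Modules.pullback (t ▷ C).left).obj ((Scheme.Modules.pullback (snd D C).left).obj N) ≅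
      (Scheme.Modules.pullback (snd D C).left).obj N :=
    (Scheme.Modules.pullbackComp (t ▷ C).left (snd D C).left).app N ≪≫
    (Scheme.Modules.pullbackCongr (show (t ▷ C).left ≫ (snd D C).left = (snd D C).left by
      rw [← Over.comp_left, whiskerRight_snd])).app N
  rw [CurvLib.euler_congr (k := K) e] at h'
  have h1 : (2 : ℤ) ^ (2 * d) ≠ 1 := by
    have : d ≠ 0 := fun h0 => hd (by rw [hdd, h0]; rfl)
    exact ((_root_.one_lt_pow₀ (by norm_num) (by omega)).ne')
  push_cast at h'
  have h2 : ((2 : ℤ) ^ (2 * d) - 1) *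
      Curv2.euler K (D ⊗ C).left ((Scheme.Modules.pullback (snd D C).left).obj N) = 0 := by
    linear_combination -h'
  exact (mul_eq_zero.1 h2).resolve_left (sub_ne_zero.2 h1)

/-- A degenerate invertible module has Euler characteristic zero. -/
theorem euler_eq_zero_of_degenerate [IsAlgClosed K] {X : Over (Spec (CommRingCat.of K))} [GrpObj X] [IsProper X.hom]
    [GeometricallyIntegral X.hom] {L : X.left.Modules} (hL : PicF.IsInvertible L)
    (hinf : Set.Infinite {x : 𝟙_ (Over (Spec (CommRingCat.of K))) ⟶ X | P hL (AVAmpleLib.tR x) = clA hL}) :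
    @Curv2.euler K _ X.left ⟨X.hom⟩ L = 0 := by
  have hlam : ∀ x : 𝟙_ (Over (Spec (CommRingCat.of K))) ⟶ X,
      lam hL (𝟙 X) (toUnit X ≫ x) = P hL (AVAmpleLib.tR x) - clA hL := fun x => by
    rw [lam, P_id, P_const hL, sub_zero]
  let H := {x : 𝟙_ (Over (Spec (CommRingCat.of K))) ⟶ X | lam hL (𝟙 X) (toUnit X ≫ x) = 0}
  have hH : H.Infinite := hinf.mono fun x hx => show _ = _ by rw [hlam, hx, sub_self]
  haveI := isCommMonObj_field (A := X)
  obtain ⟨D, _, j, hj, hjc, hDp, hDg, hdim, hr⟩ := AVAmpleLib.exists_subAV_of_infinite H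
    (by show lam hL (𝟙 X) (toUnit X ≫ 1) = 0; rw [MonObj.comp_one, lam_comm, lam_one_left])
    (fun a (ha : lam hL (𝟙 X) (toUnit X ≫ a) = 0) b (hb : lam hL (𝟙 X) (toUnit X ≫ b) = 0) =>
      show lam hL (𝟙 X) (toUnit X ≫ (a * b)) = 0 by
        rw [MonObj.comp_mul, lam_comm, lam_mul_left, lam_comm, ha, lam_comm, hb, add_zero])
    (fun a (ha : lam hL (𝟙 X) (toUnit X ≫ a) = 0) => show lam hL (𝟙 X) (toUnit X ≫ a⁻¹) = 0 by
      rw [GrpObj.comp_inv, lam_comm, lam_inv_left, lam_comm, ha, neg_zero]) hH
  haveI := hDp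
  haveI := hDg
  haveI := hjc
  haveI : IsIntegral D.left := GeometricallyIntegral.isIntegral_of_subsingleton D.hom
  haveI := isCommMonObj_field (A := D)
  obtain ⟨S, hS, hSm⟩ := exists_closed_lam_zero hL (𝟙 X) (𝟙 X)
  have hz := lam_eq_zero_of_slices hL (𝟙 X) j (1 : 𝟙_ (Over (Spec (CommRingCat.of K))) ⟶ X)
    (Category.comp_id _) fun e => by
      have h1 : AVAmpleLib.pt (e ≫ j) ∈ S := closure_minimal (by
        rintro _ ⟨b, hb, rfl⟩
        exact (hSm b).2 (by rw [Category.comp_id]; exact hb)) hS (hr ⟨_, rfl⟩)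
      have h2 := (hSm (e ≫ j)).1 h1
      rwa [Category.comp_id] at h2
  -- the class on `D` is additive, hence a value of `φ_H`
  let hLD := AmpleDevLib.isInvertible_pb j.left hL
  have haddD : IsAdditive hLD := by
    have e := congrArg (pullA (lift (fst D D ≫ j) (snd D D)).left) hz
    rw [map_zero, pullA_lam, lift_fst_assoc, lift_snd_assoc, Category.comp_id, lam] at e
    unfold IsAdditive
    rw [P_pullback hL, P_pullback hL, P_pullback hL, MonObj.mul_comp, ← sub_eq_zero, ← e]
    abel
  obtain ⟨H₀, hH₀⟩ := AVAmpleLib.exists_ample D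
  obtain ⟨b, hb⟩ := exists_phi_eq (hM := hLD) (hL := hH₀.1) haddD (AVAmpleLib.finite_translationFixing hH₀.1 hH₀)
  obtain ⟨C, _, jC, hCp, hCg, hjC, hjCc, hsur, hfin⟩ := AVAmpleLib.exists_complement (B := D) (A := X) j
  haveI := hCp
  haveI := hCg
  haveI := hjC
  haveI := isCommMonObj_field (A := C)
  haveI : LocallyOfFinitePresentation D.hom := LocallyOfFinitePresentation.iff_locallyOfFiniteType.2 inferInstance
  haveI : Flat D.hom := inferInstance
  haveI : IsProper (D ⊗ C).hom := inferInstanceAs (IsProper (pullback.fst D.hom C.hom ≫ D.hom))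
  haveI : GeometricallyIntegral (D ⊗ C).hom := CubeConsLib.geometricallyIntegral_prod D.hom C.hom
  haveI : IsCommMonObj (D ⊗ C) := isCommMonObj_field
  let s : D ⊗ C ⟶ X := (fst D C ≫ j) * (snd D C ≫ jC)
  haveI : IsMonHom s := by
    haveI : IsMonHom (fst D C ≫ j) := inferInstance
    haveI : IsMonHom (snd D C ≫ jC) := inferInstance
    exact inferInstanceAs (IsMonHom (EndAV.Hom.toHom (EndAV.Hom.of (fst D C ≫ j) + EndAV.Hom.of (snd D C ≫ jC))))
  haveI : IsFinite s.left := hfin
  haveI : Surjective s.left := hsur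
  haveI : LocallyOfFinitePresentation X.hom := LocallyOfFinitePresentation.iff_locallyOfFiniteType.2 inferInstance
  haveI : LocallyOfFinitePresentation (D ⊗ C).hom :=
    LocallyOfFinitePresentation.iff_locallyOfFiniteType.2 inferInstance
  haveI : Flat s.left := AbSchLib.flat_of_surjective s
  haveI : IsIntegral X.left := GeometricallyIntegral.isIntegral_of_subsingleton X.hom
  haveI : IsLocallyNoetherian X.left := LocallyOfFiniteType.isLocallyNoetherian X.hom
  haveI : LocallyOfFinitePresentation s.left := LocallyOfFinitePresentation.iff_locallyOfFiniteType.2 inferInstance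
  letI : X.left.Over (Spec (CommRingCat.of K)) := ⟨X.hom⟩
  letI : (D ⊗ C).left.Over (Spec (CommRingCat.of K)) := ⟨(D ⊗ C).hom⟩
  haveI : IsProper ((D ⊗ C).left ↘ Spec (CommRingCat.of K)) := inferInstanceAs (IsProper (D ⊗ C).hom)
  let m := s.left.finrank (genericPoint X.left)
  have hm : ∀ y, s.left.finrank y = m := fun y =>
    (Scheme.Hom.isLocallyConstant_finrank s.left).apply_eq_of_preconnectedSpace y _
  have hm0 : (m : ℤ) ≠ 0 := by
    exact_mod_cast ((Scheme.Hom.one_le_finrank_iff_surjective _).2 hsur (genericPoint X.left)).trans_lt'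
      Nat.zero_lt_one |>.ne'
  have hs := euler_pullback s m hm (CurvLib.isCoh_of_isInvertible hL)
  -- the two factors
  let hLC := AmpleDevLib.isInvertible_pb jC.left hL
  let hN := AmpleDevLib.isInvertible_pb (fst D C).left hLD
  let hM := AmpleDevLib.isInvertible_pb (snd D C).left hLC
  have hsplit : Nonempty ((Scheme.Modules.pullback s.left).obj L ≅
      CohB1.tensorMod ((Scheme.Modules.pullback (snd D C).left).obj ((Scheme.Modules.pullback jC.left).obj L))
        ((Scheme.Modules.pullback (fst D C).left).obj ((Scheme.Modules.pullback j.left).obj L))) := by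
    rw [← clA_eq_iff (AmpleDevLib.isInvertible_pb s.left hL) (HilbPolyLib.isInvertible_tensor hM hN),
      clA_tensor hM hN, ← P_eq hL, ← P_eq hLD, ← P_eq hLC, P_pullback hL, P_pullback hL]
    have e := congrArg (pullA (lift (snd D C ≫ jC) (fst D C)).left) hz
    rw [map_zero, pullA_lam, lift_fst_assoc, lift_snd_assoc, Category.comp_id, lam_comm, lam, sub_eq_zero,
      sub_eq_iff_eq_add] at e
    exact e
  obtain ⟨e⟩ := hsplit
  let b' : 𝟙_ (Over (Spec (CommRingCat.of K))) ⟶ D ⊗ C := lift b 1
  have hN0 : Pic13.IsAlgEquivZero K (D ⊗ C).left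
      ((Scheme.Modules.pullback (fst D C).left).obj ((Scheme.Modules.pullback j.left).obj L)) := by
    refine isAlgEquivZero_phi (hL := AmpleDevLib.isInvertible_pb (fst D C).left hH₀.1) b' hN ?_
    rw [← pullA_clA (fst D C).left hLD, hb, ← pullA_phi (hL := hH₀.1) (fst D C) b', lift_fst]
  rw [CurvLib.euler_congr (k := K) e, AlgEquivLib.euler_tensor_of_isAlgEquivZero K (D ⊗ C).left hN0
    (CurvLib.isCoh_of_isInvertible hM), euler_pullback_snd_eq_zero D C hdim hLC] at hs
  exact (mul_eq_zero.1 hs.symm).resolve_left hm0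

end AVRRLib
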