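import Groth.Agent.IntMultLib.Components
import Groth.Agent.ProjFormLib.Proj
import Groth.Agent.PushLinLib.HH
import Groth.Agent.CohCmpLib.FibreRowsBC
import Groth.Agent.CohCmpLib.LineBundle
import Groth.Agent.DevissLib.Finite
import Groth.Agent.DetDegLib.Euler
import Groth.Agent.HilbPolyLib.Basic

/-!
Dévissage for additive functions, and the pullback functor along a flat morphism.
-/

set_option autoImplicit false
set_option maxHeartbeats 1000000
set_option backward.isDefEq.respectTransparency false
set_option linter.style.haveILetI false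

noncomputable section

universe u

open CategoryTheory CategoryTheory.Limits AlgebraicGeometry TopologicalSpace
open DevissLib HilbPolyLib IntMultLib

namespace AVRRLib

variable {X : Scheme.{u}} {k : Type u} [Field k] [X.Over (Spec (CommRingCat.of k))]
  [IsProper (X ↘ Spec (CommRingCat.of k))]

include k in
variable (k) in
/-- An additive function vanishing on one sheaf with support each irreducible closed set vanishes. -/
theorem additive_eq_zero {A : Type*} [AddCommGroup A] [IsAddTorsionFree A] (Φ : X.Modules → A)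
    (hiso : ∀ M N : X.Modules, (M ≅ N) → Φ M = Φ N)
    (hzero : ∀ M : X.Modules, IsZero M → Φ M = 0)
    (hadd : ∀ S : ShortComplex X.Modules, S.ShortExact → Coh.IsCoh S.X₁ → Coh.IsCoh S.X₂ →
      Coh.IsCoh S.X₃ → Φ S.X₂ = Φ S.X₁ + Φ S.X₃)
    (hG : ∀ ξ : X, ∃ G : X.Modules, Coh.IsCoh G ∧ CohB1.support G = closure {ξ} ∧ Φ G = 0) :
    ∀ F : X.Modules, Coh.IsCoh F → Φ F = 0 := by
  haveI := CurvLib.isNoetherian k (X := X)
  suffices key : ∀ (m : ℕ) (M : X.Modules), Coh.IsCoh M →
      topologicalKrullDim (CohB1.support M) < (m : ℕ) → Φ M = 0 by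
    intro F hF
    obtain ⟨m, hm⟩ : ∃ m : ℕ, topologicalKrullDim (CohB1.support F) < (m : ℕ) := by
      obtain ⟨g, hg⟩ := HilbPolyLib.exists_dim_lt k (X := X)
      exact ⟨g, (topologicalKrullDim_subspace_le _ _).trans_lt hg⟩
    exact key m F hF hm
  intro m
  induction m with
  | zero =>
    intro M hM hd
    have hz : IsZero M := isZero_of_support_empty (Set.eq_empty_of_forall_notMem fun x hx => by
      haveI : Nonempty (IrreducibleCloseds (CohB1.support M)) :=
        ⟨⟨closure {⟨x, hx⟩}, isIrreducible_singleton.closure, isClosed_closure⟩⟩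
      have := (Order.krullDim_nonneg (α := IrreducibleCloseds (CohB1.support M))).trans_lt hd
      simp at this)
    exact hzero M hz
  | succ m ih =>
    intro M hM hd
    have hgen : ∀ ξ : X, topologicalKrullDim (closure ({ξ} : Set X)) = ((m : ℕ) : WithBot ℕ∞) →
        Φ (ClSub.quotMod (ptIdeal ξ)) = 0 := by
      intro ξ hξ
      obtain ⟨G, hGc, hsupp, hP⟩ := hG ξ
      obtain ⟨T, hT, hfin, hsum⟩ := additive_eq_sum' (k := k) Φ hiso hadd (fun N hN hNd => ih N hN hNd)
        (Y := closure {ξ}) isClosed_closure ⟨ξ, subset_closure rfl⟩ hξ.le G hGc hsupp.le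
      have hT' : T = {ξ} := Finset.ext fun y => by
        rw [hT, Finset.mem_singleton]
        refine ⟨fun hy => ?_, fun hy => by subst hy; exact ⟨subset_closure rfl, hξ⟩⟩
        exact (eq_of_specializes_of_dim isClosed_closure hξ.le hy.2 (subset_closure rfl)
          (specializes_iff_mem_closure.mpr hy.1)).symm
      subst hT'
      rw [Finset.sum_singleton, hP] at hsum
      have hlen : (len G ξ).toNat ≠ 0 := by
        rw [Ne, ENat.toNat_eq_zero, not_or]
        refine ⟨fun h0 => ?_, hfin _ (Finset.mem_singleton_self _)⟩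
        have hmem : ξ ∈ CohB1.support G := hsupp ▸ subset_closure rfl
        exact hmem (Module.length_eq_zero_iff.1 h0)
      exact (nsmul_eq_zero_iff.1 hsum.symm).resolve_right hlen
    by_cases hne : (CohB1.support M).Nonempty
    · have hdm : topologicalKrullDim (CohB1.support M) ≤ ((m : ℕ) : WithBot ℕ∞) :=
        FibDimLib.le_of_forall_nat_le fun n hn => by
          exact_mod_cast Nat.lt_succ_iff.mp (by exact_mod_cast hn.trans_lt hd)
      obtain ⟨T, hT, -, hsum⟩ := additive_eq_sum' (k := k) Φ hiso hadd (fun N hN hNd => ih N hN hNd)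
        (QCohLib.isClosed_support M hM.2) hne hdm M hM subset_rfl
      rw [hsum]
      exact Finset.sum_eq_zero fun ξ hξ => by rw [hgen ξ ((hT ξ).1 hξ).2, smul_zero]
    · exact ih M hM (by
        haveI : IsEmpty (CohB1.support M) := Set.isEmpty_coe_sort.2 (Set.not_nonempty_iff_eq_empty.1 hne)
        haveI : IsEmpty (IrreducibleCloseds (CohB1.support M)) := ⟨fun Z => isEmptyElim Z.isIrreducible.1.some⟩
        rw [topologicalKrullDim, Order.krullDim_eq_bot]
        exact WithBot.bot_lt_coe _)

end AVRRLib
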